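import Groth.Agent.H9Quot.PointTan
import Groth.Agent.ArtFunLib.HilbSit

/-! First-order deformations of a morphism: the coefficient of `ε`. -/

set_option autoImplicit false
set_option linter.style.haveILetI false
set_option backward.isDefEq.respectTransparency false
set_option backward.isDefEq.respectTransparency.types false

universe u

open CategoryTheory CategoryTheory.Limits AlgebraicGeometry ArtFun ArtFun.Art Opposite IsLocalRing

noncomputable section

namespace Groth.Agent.H9HomTan

open Groth.Agent.ArtFunLib Groth.Agent.ArtFunLib.HilbAffine Groth.Agent.ArtFunLib.HilbSit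
open Groth.Agent.H9Quot (de de₁ de₂)

variable {k : Type u} [Field k] {X : Scheme.{u}} (x : X ⟶ specPt k)

/-- The open of `X ×_k Spec B` over an open of `X`. -/
abbrev pre (B : Art k k) (W : X.Opens) : (XA x B).Opens := pullback.fst x (specOver B) ⁻¹ᵁ W

theorem pre_mono (B : Art k k) {W W' : X.Opens} (h : W' ≤ W) : pre x B W' ≤ pre x B W :=
  (pullback.fst x (specOver B)).preimage_mono h

/-- Pulling back functions. -/
def fp (B : Art k k) (W : X.Opens) : Γ(X, W) →+* Γ(XA x B, pre x B W) :=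
  ((pullback.fst x (specOver B)).app W).hom

/-- The constants. -/
def cc (B : Art k k) (W : X.Opens) : B →+* Γ(XA x B, pre x B W) :=
  ((XApr x B).appLE ⊤ (pre x B W) (fun _ _ => trivial)).hom.comp (Scheme.ΓSpecIso (CommRingCat.of B)).inv.hom

theorem fp_affine (B : Art k k) (U : X.affineOpens) : fp x B U.1 = fstPull x B U := rfl

theorem cc_affine (B : Art k k) (U : X.affineOpens) : cc x B U.1 = c x B U := rfl

theorem fp_res (B : Art k k) {W W' : X.Opens} (h : W' ≤ W) (r : Γ(X, W)) :
    (XA x B).presheaf.map (homOfLE (pre_mono x B h)).op (fp x B W r) =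
      fp x B W' (X.presheaf.map (homOfLE h).op r) :=
  congr($((pullback.fst x (specOver B)).naturality (homOfLE h).op) r).symm

theorem cc_res (B : Art k k) {W W' : X.Opens} (h : W' ≤ W) (b : B) :
    (XA x B).presheaf.map (homOfLE (pre_mono x B h)).op (cc x B W b) = cc x B W' b :=
  congr($(Scheme.Hom.appLE_map (f := XApr x B) (U := ⊤) (fun _ _ => trivial) (homOfLE (pre_mono x B h)).op)
    ((Scheme.ΓSpecIso (CommRingCat.of B)).inv b))

/-- The scalars. -/
def sc (W : X.Opens) : k →+* Γ(X, W) :=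
  ((Scheme.ΓSpecIso (CommRingCat.of k)).inv ≫ x.appLE ⊤ W (fun _ _ => trivial)).hom

theorem cc_ofBase (B : Art k k) (W : X.Opens) (a : k) :
    cc x B W (ofBase B a) = fp x B W (sc x W a) := by
  have h1 : (specOver B).appTop ≫ (XApr x B).appLE ⊤ (pre x B W) (fun _ _ => trivial) =
      x.appLE ⊤ W (fun _ _ => trivial) ≫ (pullback.fst x (specOver B)).app W := by
    have h := appLE_congr (pullback.condition (f := x) (g := specOver B)) ⊤ (pre x B W) (fun _ _ => trivial)
      (fun _ _ => trivial)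
    rw [Scheme.Hom.comp_appLE, Scheme.Hom.comp_appLE] at h
    rw [Scheme.Hom.app_eq_appLE (f := pullback.fst x (specOver B)), Scheme.Hom.appLE_comp_appLE]
    refine (Eq.trans ?_ h.symm).trans ((Scheme.Hom.comp_appLE _ _ _ _ _).symm.trans ?_)
    · rfl
    · rfl
  have h2 := Scheme.ΓSpecIso_inv_naturality (CommRingCat.ofHom (ofBase B).toAlgHom.toRingHom)
  refine Eq.trans ?_ (congr($h1 ((Scheme.ΓSpecIso (CommRingCat.of k)).inv a)))
  exact congrArg ((XApr x B).appLE ⊤ (pre x B W) (fun _ _ => trivial)).hom (congr($h2 a))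

theorem rho_c_mem {B : Art k k} (U : X.affineOpens) {t : B} (ht : t ∈ maximalIdeal B) :
    rho x B U (c x B U t) = 0 := by
  rw [← RingHom.mem_ker, (rho_spec x B U).2]
  exact Ideal.mem_map_of_mem _ ht

/-- Expansion of a function on a thickening by `ε₁, ε₂` with `εᵢεⱼ = 0`. -/
theorem exists_coef {B : Art k k} (U : X.affineOpens) (t₁ t₂ : B)
    (hm : maximalIdeal B = Ideal.span {t₁, t₂})
    (h11 : t₁ * t₁ = 0) (h12 : t₁ * t₂ = 0) (h22 : t₂ * t₂ = 0) (z : Γ(XA x B, (W x B U).1)) :
    ∃ a b, z = fstPull x B U (rho x B U z) + c x B U t₁ * fstPull x B U a + c x B U t₂ * fstPull x B U b := by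
  have hdec : ∀ y, ∃ a b, y = fstPull x B U (rho x B U y) + (c x B U t₁ * a + c x B U t₂ * b) := by
    intro y
    have h : y - fstPull x B U (rho x B U y) ∈ RingHom.ker (rho x B U) := by
      rw [RingHom.mem_ker, map_sub, rho_fst, sub_self]
    rw [(rho_spec x B U).2, hm, Ideal.map_span, Set.image_pair, Ideal.mem_span_pair] at h
    obtain ⟨a, b, h⟩ := h
    exact ⟨a, b, by rw [mul_comm _ a, mul_comm _ b, h]; ring⟩
  obtain ⟨a, b, hz⟩ := hdec z
  obtain ⟨a1, a2, ha⟩ := hdec a
  obtain ⟨b1, b2, hb⟩ := hdec b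
  refine ⟨rho x B U a, rho x B U b, ?_⟩
  have e : ∀ s t : B, s * t = 0 → c x B U s * c x B U t = 0 := fun s t h => by rw [← map_mul, h, map_zero]
  refine hz.trans ?_
  conv_lhs => rw [ha, hb]
  linear_combination a1 * e _ _ h11 + a2 * e _ _ h12 + b1 * e _ _ h12 + b2 * e _ _ h22

theorem maximalIdeal_dual : maximalIdeal (dual k k : Art k k) = Ideal.span {de, de} := by
  rw [Set.pair_eq_singleton, ← H9Quot.ker_toBase]
  exact H9Quot.small_dual.hker

theorem de_mul_de : (de : (dual k k : Art k k)) * de = 0 := DualNumber.eps_mul_eps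

theorem de_mem : (de : (dual k k : Art k k)) ∈ maximalIdeal (dual k k : Art k k) := by
  rw [maximalIdeal_dual]; exact Ideal.subset_span (by simp)

theorem exists_coef_dual (U : X.affineOpens) (z : Γ(XA x (dual k k), (W x (dual k k) U).1)) :
    ∃ b, z = fstPull x _ U (rho x _ U z) + c x _ U de * fstPull x _ U b := by
  obtain ⟨a, b, h⟩ := exists_coef x U (de : (dual k k : Art k k)) de maximalIdeal_dual de_mul_de de_mul_de de_mul_de z
  exact ⟨a + b, by rw [map_add, mul_add, ← add_assoc]; exact h⟩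

theorem maximalIdeal_dual2 : maximalIdeal (dual2 k k : Art k k) = Ideal.span {de₁, de₂} := by
  refine le_antisymm (fun b hb => ?_) (Ideal.span_le.2 ?_)
  · have h := H9Quot.tsze_eq b ((Art.mem_maximalIdeal_iff _ b).1 hb)
    exact Ideal.mem_span_pair.2 ⟨TrivSqZeroExt.inl b.snd.1, TrivSqZeroExt.inl b.snd.2,
      ((h.trans (congrArg₂ (· + ·) (mul_comm _ _) (mul_comm _ _)))).symm⟩
  · rintro b (rfl | rfl) <;> exact (Art.mem_maximalIdeal_iff _ _).2 rfl

theorem mem_map_of_mul_eq_zero {B R : Type u} [CommRing B] [IsLocalRing B] [CommRing R] (φ : B →+* R) (hφ : φ.Flat)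
    {t : B} (ht : t ≠ 0) {y : R} (h : φ t * y = 0) : y ∈ (maximalIdeal B).map φ := by
  letI : Algebra B R := φ.toAlgebra
  haveI : Module.Flat B R := hφ
  have h0 : ∑ _i : Fin 1, t • y = 0 := by
    rw [Fin.sum_univ_one, Algebra.smul_def]
    exact h
  obtain ⟨K, w, z, hz, hw⟩ := Module.Flat.isTrivialRelation_of_sum_smul_eq_zero
    (f := fun _ : Fin 1 => t) (x := fun _ : Fin 1 => y) h0
  rw [show y = _ from hz 0]
  refine Ideal.sum_mem _ fun j _ => ?_
  rw [Algebra.smul_def]
  refine Ideal.mul_mem_right _ _ (Ideal.mem_map_of_mem _ ?_)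
  have h2 := hw j
  rw [Fin.sum_univ_one] at h2
  by_contra hu
  exact ht ((IsLocalRing.notMem_maximalIdeal.1 hu).mul_left_eq_zero.1 h2)

theorem c_de_cancel (U : X.affineOpens) {a b : Γ(X, U.1)}
    (h : c x (dual k k) U de * fstPull x _ U a = c x (dual k k) U de * fstPull x _ U b) : a = b := by
  have h1 : c x (dual k k) U de * (fstPull x _ U a - fstPull x _ U b) = 0 := by rw [mul_sub, h, sub_self]
  have h2 := mem_map_of_mul_eq_zero _ (flat_c x (dual k k) U) H9Quot.small_dual.ne h1
  rw [← (rho_spec x (dual k k) U).2, RingHom.mem_ker, map_sub, rho_fst, rho_fst] at h2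
  exact sub_eq_zero.1 h2

theorem pi_fst {B A : Art k k} (p : B ⟶ A) (U : X.affineOpens) (r : Γ(X, U.1)) :
    pi x p U (fstPull x B U r) = fstPull x A U r := by
  have h1 : (pullback.fst x (specOver B)).app U.1 ≫ (XAmap x p).appLE (W x B U).1 (W x A U).1 (pi_le x p U).le =
      (pullback.fst x (specOver A)).app U.1 := by
    rw [Scheme.Hom.app_eq_appLE]
    refine (Scheme.Hom.appLE_comp_appLE (XAmap x p) (pullback.fst x (specOver B)) U.1 (W x B U).1 (W x A U).1 le_rfl
      (pi_le x p U).le).trans ?_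
    rw [appLE_congr (XAmap_fst x p) U.1 (W x A U).1 _ (le_refl _)]
    exact (Scheme.Hom.app_eq_appLE (f := pullback.fst x (specOver A)) (U := U.1)).symm
  exact congr($h1 r)

/-- The coefficient after a map to `k[ε]`. -/
theorem pi_expansion {B : Art k k} (h : B ⟶ dual k k) (U : X.affineOpens) {t₁ t₂ : B} {a₁ a₂ : k}
    (h₁ : h t₁ = ofBase (dual k k : Art k k) a₁ * de) (h₂ : h t₂ = ofBase (dual k k : Art k k) a₂ * de)
    (r b₁ b₂ : Γ(X, U.1)) :
    pi x h U (fstPull x B U r + c x B U t₁ * fstPull x B U b₁ + c x B U t₂ * fstPull x B U b₂) =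
      fstPull x _ U r + c x _ U de * fstPull x _ U (sc x U.1 a₁ * b₁ + sc x U.1 a₂ * b₂) := by
  have e : ∀ a : k, c x (dual k k : Art k k) U (ofBase (dual k k : Art k k) a * de) =
      fstPull x _ U (sc x U.1 a) * c x _ U de := fun a =>
    (map_mul (c x (dual k k : Art k k) U) _ _).trans (congrArg (· * c x (dual k k : Art k k) U de) (cc_ofBase x _ U.1 a))
  rw [map_add, map_add, map_mul, map_mul, pi_fst, pi_fst, pi_fst, pi_c, pi_c, h₁, h₂, e, e, map_add, map_mul, map_mul]
  ring

end Groth.Agent.H9HomTan
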