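import Groth.Agent.H9HomTan.Coef
import Groth.Agent.H9DefExt.Fam

/-! Morphisms from `X[ε]` extending `f` and derivations with values in `f_* O_X`. -/

set_option autoImplicit false
set_option linter.style.haveILetI false
set_option backward.isDefEq.respectTransparency false
set_option backward.isDefEq.respectTransparency.types false

universe u

open CategoryTheory CategoryTheory.Limits AlgebraicGeometry TopologicalSpace ArtFun ArtFun.Art Opposite IsLocalRing

noncomputable section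

namespace Groth.Agent.H9HomTan

open Groth.Agent.ArtFunLib Groth.Agent.ArtFunLib.HilbAffine Groth.Agent.ArtFunLib.HilbSit
open Groth.Agent.H9Quot (de)

variable {k : Type u} [Field k] {X : Scheme.{u}} {x : X ⟶ specPt k} {Y : Scheme.{u}} {f : X ⟶ Y}

theorem pre_eq {B : Art k k} (φ : XA x B ⟶ Y) (hφ : XAincl x B ≫ φ = f) (V : Y.Opens) :
    φ ⁻¹ᵁ V = pre x B (f ⁻¹ᵁ V) := by
  haveI := surjective_incl x B
  refine Opens.ext (Set.ext fun z => ?_)
  obtain ⟨p, rfl⟩ := (XAincl x B).surjective z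
  show φ (XAincl x B p) ∈ V ↔ f (pullback.fst x (specOver B) (XAincl x B p)) ∈ V
  rw [← Scheme.Hom.comp_apply, hφ]
  exact iff_of_eq (congrArg (fun g : X ⟶ Y => g p ∈ V)
    (show f = XAincl x B ≫ pullback.fst x (specOver B) ≫ f by rw [← Category.assoc, XAincl_fst, Category.id_comp]))

theorem le_pre {B : Art k k} (φ : XA x B ⟶ Y) (hφ : XAincl x B ≫ φ = f) (V : Y.Opens) {W : X.Opens}
    (h : W ≤ f ⁻¹ᵁ V) : pre x B W ≤ φ ⁻¹ᵁ V :=
  (pre_mono x B h).trans (pre_eq φ hφ V).ge

theorem rho_val {B : Art k k} (φ : XA x B ⟶ Y) (hφ : XAincl x B ≫ φ = f) (V : Y.Opens) (U : X.affineOpens)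
    (h : U.1 ≤ f ⁻¹ᵁ V) (s : Γ(Y, V)) :
    rho x B U (φ.appLE V (W x B U).1 (le_pre φ hφ V h) s) = f.appLE V U.1 h s := by
  have h1 : φ.appLE V (W x B U).1 (le_pre φ hφ V h) ≫ (XAincl x B).appLE (W x B U).1 U.1 (rho_le x B U).le =
      f.appLE V U.1 h := by
    rw [Scheme.Hom.appLE_comp_appLE]
    exact appLE_congr hφ _ _ _ _
  exact congr($h1 s)

/-- `t` is the coefficient of `ε` of `φ♯ s`. -/
def IsCoef (φ : XA x (dual k k) ⟶ Y) (hφ : XAincl x (dual k k) ≫ φ = f) (V : Y.Opens) (s : Γ(Y, V))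
    (t : Γ(X, f ⁻¹ᵁ V)) : Prop :=
  ∀ (U : X.affineOpens) (h : U.1 ≤ f ⁻¹ᵁ V),
    φ.appLE V (W x (dual k k) U).1 (le_pre φ hφ V h) s =
      fstPull x _ U (f.appLE V U.1 h s) + c x _ U de * fstPull x _ U (X.presheaf.map (homOfLE h).op t)

variable (x) in
theorem res_expansion {W W' : X.Opens} (h : W' ≤ W) (a b : Γ(X, W)) :
    (XA x (dual k k : Art k k)).presheaf.map (homOfLE (pre_mono x (dual k k : Art k k) h)).op
        (fp x _ W a + cc x _ W de * fp x _ W b) =
      fp x (dual k k : Art k k) W' (X.presheaf.map (homOfLE h).op a) +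
        cc x _ W' de * fp x _ W' (X.presheaf.map (homOfLE h).op b) := by
  rw [map_add, map_mul, fp_res x _ h, fp_res x _ h, cc_res x _ h]

variable (x) in
theorem rho_expansion (U : X.affineOpens) (a b : Γ(X, U.1)) :
    rho x (dual k k : Art k k) U (fp x _ U.1 a + cc x _ U.1 de * fp x _ U.1 b) = a :=
  (map_add _ _ _).trans ((congrArg₂ (· + ·) (rho_fst x _ U a) ((map_mul _ _ _).trans
    ((congrArg (· * _) (rho_c_mem x U (de_mem (k := k)))).trans (zero_mul _)))).trans (add_zero _))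

variable (φ : XA x (dual k k) ⟶ Y) (hφ : XAincl x (dual k k) ≫ φ = f)

theorem eq_of_affine {W : X.Opens} {s t : Γ(X, W)}
    (h : ∀ (U : X.affineOpens) (hU : U.1 ≤ W), X.presheaf.map (homOfLE hU).op s = X.presheaf.map (homOfLE hU).op t) :
    s = t := by
  refine TopCat.Sheaf.eq_of_locally_eq' X.sheaf (fun i : {U : X.affineOpens // U.1 ≤ W} => i.1.1) W
    (fun i => homOfLE i.2) (fun p hp => ?_) s t fun i => h i.1 i.2
  obtain ⟨_, ⟨U, hU, rfl⟩, hpU, hle⟩ := X.isBasis_affineOpens.exists_subset_of_mem_open hp W.2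
  exact Opens.mem_iSup.2 ⟨⟨⟨U, hU⟩, hle⟩, hpU⟩

theorem isCoef_unique {V : Y.Opens} {s : Γ(Y, V)} {t t' : Γ(X, f ⁻¹ᵁ V)} (h : IsCoef φ hφ V s t)
    (h' : IsCoef φ hφ V s t') : t = t' :=
  eq_of_affine fun U hU => c_de_cancel x U (add_left_cancel ((h U hU).symm.trans (h' U hU)))

theorem exists_isCoef (V : Y.Opens) (s : Γ(Y, V)) : ∃ t, IsCoef φ hφ V s t := by
  let ι := {U : X.affineOpens // U.1 ≤ f ⁻¹ᵁ V}
  have hex : ∀ i : ι, ∃ b, φ.appLE V (W x (dual k k) i.1).1 (le_pre φ hφ V i.2) s =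
      fstPull x _ i.1 (f.appLE V i.1.1 i.2 s) + c x _ i.1 de * fstPull x _ i.1 b := fun i => by
    obtain ⟨b, hb⟩ := exists_coef_dual x i.1 (φ.appLE V (W x (dual k k) i.1).1 (le_pre φ hφ V i.2) s)
    rw [rho_val φ hφ V i.1 i.2 s] at hb
    exact ⟨b, hb⟩
  choose b hb using hex
  have hres : ∀ (i : ι) (U : X.affineOpens) (h : U.1 ≤ i.1.1),
      φ.appLE V (W x (dual k k) U).1 (le_pre φ hφ V (h.trans i.2)) s =
        fstPull x _ U (f.appLE V U.1 (h.trans i.2) s) + c x _ U de * fstPull x _ U (X.presheaf.map (homOfLE h).op (b i)) := by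
    intro i U h
    have e := (congrArg ((XA x (dual k k)).presheaf.map (homOfLE (pre_mono x (dual k k : Art k k) h)).op) (hb i)).trans
      (res_expansion x h _ _)
    refine Eq.trans ?_ (e.trans ?_)
    · exact (congr($(Scheme.Hom.appLE_map (f := φ) (le_pre φ hφ V i.2)
        (homOfLE (pre_mono x (dual k k : Art k k) h)).op) s)).symm
    · congr 2
      exact congr($(Scheme.Hom.appLE_map (f := f) i.2 (homOfLE h).op) s)
  obtain ⟨t, ht, -⟩ := TopCat.Sheaf.existsUnique_gluing' X.sheaf (fun i : ι => i.1.1) (f ⁻¹ᵁ V)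
    (fun i => homOfLE i.2) (fun p hp => by
      obtain ⟨_, ⟨U, hU, rfl⟩, hpU, hle⟩ := X.isBasis_affineOpens.exists_subset_of_mem_open hp (f ⁻¹ᵁ V).2
      exact Opens.mem_iSup.2 ⟨⟨⟨U, hU⟩, hle⟩, hpU⟩) b (fun i j => by
      refine eq_of_affine fun U hU => ?_
      have hi := hU.trans inf_le_left
      have hj := hU.trans inf_le_right
      refine Eq.trans ?_ ((c_de_cancel x U (add_left_cancel ((hres i U hi).symm.trans (hres j U hj)))).trans ?_)
      · exact congr($((X.presheaf.map_comp (Opens.infLELeft i.1.1 j.1.1).op (homOfLE hU).op)) (b i)).symm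
      · exact congr($((X.presheaf.map_comp (Opens.infLERight i.1.1 j.1.1).op (homOfLE hU).op)) (b j)))
  refine ⟨t, fun U h => (hb ⟨U, h⟩).trans ?_⟩
  rw [← ht ⟨U, h⟩]
  rfl

/-- The coefficient of `ε`. -/
def coef (V : Y.Opens) (s : Γ(Y, V)) : Γ(X, f ⁻¹ᵁ V) := (exists_isCoef φ hφ V s).choose

theorem isCoef_coef (V : Y.Opens) (s : Γ(Y, V)) : IsCoef φ hφ V s (coef φ hφ V s) :=
  (exists_isCoef φ hφ V s).choose_spec

theorem coef_add (V : Y.Opens) (s s' : Γ(Y, V)) : coef φ hφ V (s + s') = coef φ hφ V s + coef φ hφ V s' :=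
  isCoef_unique φ hφ (isCoef_coef φ hφ V _) fun U h => by
    rw [map_add, map_add, map_add, map_add, map_add, isCoef_coef φ hφ V s U h, isCoef_coef φ hφ V s' U h]
    ring

theorem f_res (V : Y.Opens) (U : X.affineOpens) (h : U.1 ≤ f ⁻¹ᵁ V) (a : Γ(Y, V)) :
    X.presheaf.map (homOfLE h).op (f.app V a) = f.appLE V U.1 h a := rfl

theorem coef_mul (V : Y.Opens) (s s' : Γ(Y, V)) :
    coef φ hφ V (s * s') = f.app V s * coef φ hφ V s' + f.app V s' * coef φ hφ V s :=
  isCoef_unique φ hφ (isCoef_coef φ hφ V _) fun U h => by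
    rw [map_mul, map_mul, map_mul, map_add, map_mul, map_mul, map_add, map_mul, map_mul, f_res, f_res,
      isCoef_coef φ hφ V s U h, isCoef_coef φ hφ V s' U h]
    have e : c x (dual k k : Art k k) U de * c x _ U de = 0 := by rw [← map_mul, de_mul_de, map_zero]
    linear_combination (fstPull x (dual k k : Art k k) U (X.presheaf.map (homOfLE h).op (coef φ hφ V s)) *
      fstPull x _ U (X.presheaf.map (homOfLE h).op (coef φ hφ V s'))) * e

theorem coef_res {V V' : Y.Opens} (i : V' ≤ V) (s : Γ(Y, V)) :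
    coef φ hφ V' (Y.presheaf.map (homOfLE i).op s) =
      X.presheaf.map (homOfLE (f.preimage_mono i)).op (coef φ hφ V s) :=
  isCoef_unique φ hφ (isCoef_coef φ hφ V' _) fun U h => by
    have h1 := isCoef_coef φ hφ V s U (h.trans (f.preimage_mono i))
    refine (congr($(Scheme.Hom.map_appLE (f := φ) (le_pre φ hφ V' h) (homOfLE i).op) s)).trans (h1.trans ?_)
    congr 2
    · exact (congr($(Scheme.Hom.map_appLE (f := f) h (homOfLE i).op) s)).symm
    · congr 1
      exact congr($((X.presheaf.map_comp (homOfLE (f.preimage_mono i)).op (homOfLE h).op)) (coef φ hφ V s))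

variable {y : Y ⟶ specPt k}

theorem coef_const (hy : φ ≫ y = pullback.fst x (specOver (dual k k : Art k k)) ≫ x) (hf : f ≫ y = x)
    (O : (specPt k).Opens) (t : Γ(specPt k, O)) :
    coef φ hφ (y ⁻¹ᵁ O) (y.app O t) = 0 :=
  isCoef_unique φ hφ (isCoef_coef φ hφ _ _) fun U h => by
    rw [map_zero, map_zero, mul_zero, add_zero]
    have hx : U.1 ≤ x ⁻¹ᵁ O := by
      intro p hp
      show x p ∈ O
      rw [← hf]
      exact h hp
    have h1 : y.app O ≫ φ.appLE (y ⁻¹ᵁ O) (W x (dual k k : Art k k) U).1 (le_pre φ hφ _ h) =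
        x.appLE O U.1 hx ≫ (pullback.fst x (specOver (dual k k : Art k k))).app U.1 := by
      rw [Scheme.Hom.app_eq_appLE, Scheme.Hom.appLE_comp_appLE,
        Scheme.Hom.app_eq_appLE (f := pullback.fst x (specOver (dual k k : Art k k))), Scheme.Hom.appLE_comp_appLE]
      exact appLE_congr hy _ _ _ _
    have h2 : y.app O ≫ f.appLE (y ⁻¹ᵁ O) U.1 h = x.appLE O U.1 hx := by
      rw [Scheme.Hom.app_eq_appLE, Scheme.Hom.appLE_comp_appLE]
      exact appLE_congr hf _ _ _ _
    exact (congr($h1 t)).trans (congrArg (fstPull x (dual k k : Art k k) U) (congr($h2 t))).symm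

/-- The derivation of a first-order deformation. -/
def toDer (hy : φ ≫ y = pullback.fst x (specOver (dual k k : Art k k)) ≫ x) (hf : f ≫ y = x) :
    OmegaSh.Der y ((Scheme.Modules.pushforward f).obj (Coh.structureModule X)) where
  d {V} := AddMonoidHom.mk' (coef φ hφ V.unop) (coef_add φ hφ V.unop)
  d_mul {V} a b := coef_mul φ hφ V.unop a b
  d_map {V V'} i s := coef_res φ hφ i.unop.le s
  d_app {O} t := coef_const φ hφ hy hf O.unop t

/-- Morphisms with the same coefficient are equal. -/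
theorem ext_of_coef {φ' : XA x (dual k k) ⟶ Y} (hφ' : XAincl x (dual k k) ≫ φ' = f)
    (h : ∀ V s, coef φ hφ V s = coef φ' hφ' V s) : φ = φ' := by
  let ι := Σ V : Y.affineOpens, {U : X.affineOpens // U.1 ≤ f ⁻¹ᵁ V.1}
  refine Scheme.Cover.hom_ext (Scheme.openCoverOfIsOpenCover (XA x (dual k k : Art k k))
    (fun i : ι => (W x (dual k k : Art k k) i.2.1).1) (top_unique fun z _ => ?_)) _ _ fun i => ?_
  · obtain ⟨_, ⟨V, hV, rfl⟩, hzV, -⟩ := Y.isBasis_affineOpens.exists_subset_of_mem_open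
      (Set.mem_univ (f (pullback.fst x (specOver (dual k k : Art k k)) z))) isOpen_univ
    obtain ⟨_, ⟨U, hU, rfl⟩, hzU, hle⟩ := X.isBasis_affineOpens.exists_subset_of_mem_open
      (show pullback.fst x (specOver (dual k k : Art k k)) z ∈ (f ⁻¹ᵁ V : X.Opens) from hzV) (f ⁻¹ᵁ V).2
    exact Opens.mem_iSup.2 ⟨⟨⟨V, hV⟩, ⟨⟨U, hU⟩, hle⟩⟩, hzU⟩
  · obtain ⟨V, U, hle⟩ := i
    show (W x (dual k k : Art k k) U).1.ι ≫ φ = (W x (dual k k : Art k k) U).1.ι ≫ φ'
    rw [← cancel_epi (W x (dual k k : Art k k) U).2.isoSpec.inv, ← Category.assoc, ← Category.assoc,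
      IsAffineOpen.isoSpec_inv_ι, ← IsAffineOpen.SpecMap_appLE_fromSpec φ V.2 _ (le_pre φ hφ V.1 hle),
      ← IsAffineOpen.SpecMap_appLE_fromSpec φ' V.2 _ (le_pre φ' hφ' V.1 hle)]
    congr 2
    ext s
    refine (isCoef_coef φ hφ V.1 s U hle).trans (Eq.trans ?_ (isCoef_coef φ' hφ' V.1 s U hle).symm)
    rw [h]

section OfDer

variable (D : OmegaSh.Der y ((Scheme.Modules.pushforward f).obj (Coh.structureModule X)))

/-- The value of the derivation as a function. -/
def dval (V : Y.Opens) : Γ(Y, V) →+ Γ(X, f ⁻¹ᵁ V) := D.d (X := op V)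

theorem dval_mul (V : Y.Opens) (a b : Γ(Y, V)) :
    dval D V (a * b) = f.app V a * dval D V b + f.app V b * dval D V a := D.d_mul (X := op V) a b

theorem dval_res {V V' : Y.Opens} (i : V' ≤ V) (s : Γ(Y, V)) :
    dval D V' (Y.presheaf.map (homOfLE i).op s) =
      X.presheaf.map (homOfLE (f.preimage_mono i)).op (dval D V s) := D.d_map (homOfLE i).op s

theorem dval_one (V : Y.Opens) : dval D V 1 = 0 := by
  have h := dval_mul D V 1 1
  rw [mul_one, map_one (f.app V).hom, one_mul] at h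
  exact left_eq_add.1 h

variable (x)

/-- The functions map of the deformation. -/
def ofApp (V : Y.Opens) : Γ(Y, V) →+* Γ(XA x (dual k k : Art k k), pre x (dual k k) (f ⁻¹ᵁ V)) where
  toFun s := fp x _ _ (f.app V s) + cc x _ _ de * fp x _ _ (dval D V s)
  map_one' := by rw [dval_one, map_one, map_one, map_zero, mul_zero, add_zero]
  map_mul' a b := by
    rw [dval_mul, map_mul, map_mul, map_add, map_mul, map_mul]
    have e : cc x (dual k k : Art k k) (f ⁻¹ᵁ V) de * cc x _ _ de = 0 := by rw [← map_mul, de_mul_de, map_zero]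
    linear_combination (-(fp x (dual k k : Art k k) _ (dval D V a) * fp x _ _ (dval D V b))) * e
  map_zero' := by simp
  map_add' a b := by rw [map_add, map_add, map_add, map_add]; ring

theorem ofApp_res {V V' : Y.Opens} (i : V' ≤ V) (s : Γ(Y, V)) :
    (XA x (dual k k : Art k k)).presheaf.map (homOfLE (pre_mono x _ (f.preimage_mono i))).op (ofApp x D V s) =
      ofApp x D V' (Y.presheaf.map (homOfLE i).op s) := by
  show _ = fp x _ _ _ + _
  rw [dval_res D i]
  refine (res_expansion x (f.preimage_mono i) _ _).trans ?_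
  congr 2
  exact (congr($(f.naturality (homOfLE i).op) s)).symm

theorem isLocalHom_ofApp_germ (z : XA x (dual k k : Art k k)) (V : Y.Opens)
    (hz : z ∈ pre x (dual k k : Art k k) (f ⁻¹ᵁ V)) (s : Γ(Y, V))
    (hu : IsUnit ((XA x (dual k k : Art k k)).presheaf.germ _ z hz (ofApp x D V s))) :
    IsUnit ((XA x (dual k k : Art k k)).presheaf.germ _ z hz (fp x _ _ (f.app V s))) := by
  have hn : IsNilpotent ((XA x (dual k k : Art k k)).presheaf.germ _ z hz
      (-(cc x _ _ de * fp x _ _ (dval D V s)))) := ⟨2, by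
    rw [← map_pow, neg_sq, mul_pow, sq (cc x _ _ de), ← map_mul, de_mul_de, map_zero, zero_mul, map_zero]⟩
  have h := hn.isUnit_add_left_of_commute hu (Commute.all _ _)
  rwa [← map_add, show ofApp x D V s + -(cc x _ _ de * fp x _ _ (dval D V s)) = fp x _ _ (f.app V s) from
    add_neg_cancel_right _ _] at h

/-- The underlying map of presheafed spaces. -/
def ofPsh : (XA x (dual k k : Art k k)).toPresheafedSpace.Hom Y.toPresheafedSpace where
  base := (pullback.fst x (specOver (dual k k : Art k k)) ≫ f).base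
  c :=
    { app := fun V => CommRingCat.ofHom (ofApp x D V.unop)
      naturality := fun V V' i => CommRingCat.hom_ext (RingHom.ext fun s => (ofApp_res x D i.unop.le s).symm) }

/-- The deformation of `f` given by a derivation. -/
def ofDer : XA x (dual k k) ⟶ Y :=
  ⟨⟨ofPsh x D, fun z => ⟨fun a ha => by
    obtain ⟨V, hV, s, rfl⟩ := Y.presheaf.germ_exist a
    have h1 : ((ofPsh x D).stalkMap z).hom (Y.presheaf.germ V _ hV s) =
        (XA x (dual k k : Art k k)).presheaf.germ _ z hV (ofApp x D V s) :=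
      PresheafedSpace.stalkMap_germ_apply (ofPsh x D) V z hV s
    have h2 := isLocalHom_ofApp_germ x D z V hV s (h1 ▸ ha)
    refine (isUnit_map_iff ((pullback.fst x (specOver (dual k k : Art k k)) ≫ f).stalkMap z).hom _).1 ?_
    have h3 := Scheme.Hom.germ_stalkMap_apply (pullback.fst x (specOver (dual k k : Art k k)) ≫ f) V z hV s
    exact h3 ▸ h2⟩⟩⟩

theorem ofDer_app (V : Y.Opens) : (ofDer x D).app V = CommRingCat.ofHom (ofApp x D V) := rfl

theorem incl_ofDer : XAincl x (dual k k) ≫ ofDer x D = f := by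
  have hb : (XAincl x (dual k k : Art k k)) ≫ pullback.fst x (specOver (dual k k : Art k k)) ≫ f = f := by
    rw [← Category.assoc, XAincl_fst, Category.id_comp]
  refine Scheme.Hom.ext (congrArg (fun g => g.base) hb) fun V => ?_
  ext s
  refine eq_of_affine fun U hU => ?_
  have hU' : U.1 ≤ f ⁻¹ᵁ V := hU
  have hle : U.1 ≤ (XAincl x (dual k k : Art k k) ≫ ofDer x D) ⁻¹ᵁ V :=
    hU'.trans (le_of_eq (congrArg (fun g : X ⟶ Y => g ⁻¹ᵁ V) hb).symm)
  have key : (XAincl x (dual k k : Art k k) ≫ ofDer x D).appLE V U.1 hle s = f.appLE V U.1 hU' s := by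
    rw [← Scheme.Hom.appLE_comp_appLE (XAincl x (dual k k : Art k k)) (ofDer x D) V (W x (dual k k : Art k k) U).1 U.1
      (pre_mono x _ hU') (rho_le x _ U).le, ConcreteCategory.comp_apply]
    show rho x _ U ((XA x (dual k k : Art k k)).presheaf.map (homOfLE (pre_mono x _ hU')).op (ofApp x D V s)) = _
    refine (congrArg (rho x _ U) (res_expansion x hU' _ _)).trans ?_
    exact (rho_expansion x U _ _).trans rfl
  refine Eq.trans ?_ (key.trans rfl)
  exact (congr($(X.presheaf.map_comp _ _) ((XAincl x (dual k k : Art k k) ≫ ofDer x D).app V s))).symm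

theorem coef_ofDer (V : Y.Opens) (s : Γ(Y, V)) : coef (ofDer x D) (incl_ofDer x D) V s = dval D V s :=
  isCoef_unique _ _ (isCoef_coef _ _ V s) fun U h => by
    exact res_expansion x h _ _

theorem ofDer_over (hf : f ≫ y = x) :
    ofDer x D ≫ y = pullback.fst x (specOver (dual k k : Art k k)) ≫ x := by
  refine ext_of_isAffine ?_
  ext t
  show ofApp x D (y ⁻¹ᵁ ⊤) (y.app ⊤ t) = _
  show fp x _ _ _ + cc x _ _ de * fp x _ _ (dval D (y ⁻¹ᵁ ⊤) (y.app ⊤ t)) = _
  rw [show dval D (y ⁻¹ᵁ ⊤) (y.app ⊤ t) = 0 from D.d_app (X := op ⊤) t, map_zero, mul_zero, add_zero]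
  subst hf
  rfl

end OfDer

end Groth.Agent.H9HomTan
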