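import Groth.Agent.H9HomTan.Deriv
import Groth.Agent.H9HilbLink.Stalk
import Groth.Agent.H9HilbLink.Ring
import Groth.Agent.H9Hilb.Normal

/-! The tangent space of a scheme of morphisms at a point. -/

set_option autoImplicit false
set_option linter.style.haveILetI false
set_option backward.isDefEq.respectTransparency false
set_option backward.isDefEq.respectTransparency.types false

universe u

open CategoryTheory CategoryTheory.Limits MonoidalCategory CartesianMonoidalCategory AlgebraicGeometry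
  TopologicalSpace ArtFun ArtFun.Art Opposite IsLocalRing

noncomputable section

namespace Groth.Agent.H9HomTan

open Groth.Agent.ArtFunLib Groth.Agent.ArtFunLib.HilbAffine Groth.Agent.ArtFunLib.HilbSit
open Groth.Agent.ArtFunLib.Hull Groth.Agent.H9HilbLink
open Groth.Agent.H9Quot (de de₁ de₂)

variable {k : Type u} [Field k] {X : Scheme.{u}} {x : X ⟶ specPt k} {Y : Scheme.{u}} {y : Y ⟶ specPt k} {f : X ⟶ Y}

theorem incl_map {B A : Art k k} (h : B ⟶ A) (ψ : XA x B ⟶ Y) (hψ : XAincl x B ≫ ψ = f) :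
    XAincl x A ≫ XAmap x h ≫ ψ = f := by
  rw [← Category.assoc, XAincl_XAmap, hψ]

theorem appLE_map_comp {B A : Art k k} (h : B ⟶ A) (ψ : XA x B ⟶ Y) (hψ : XAincl x B ≫ ψ = f) (V : Y.Opens)
    (U : X.affineOpens) (hU : U.1 ≤ f ⁻¹ᵁ V) (s : Γ(Y, V)) :
    (XAmap x h ≫ ψ).appLE V (W x A U).1 (le_pre _ (incl_map h ψ hψ) V hU) s =
      pi x h U (ψ.appLE V (W x B U).1 (le_pre ψ hψ V hU) s) := by
  have h1 : ψ.appLE V (W x B U).1 (le_pre ψ hψ V hU) ≫ (XAmap x h).appLE (W x B U).1 (W x A U).1 (pi_le x h U).le =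
      (XAmap x h ≫ ψ).appLE V (W x A U).1 (le_pre _ (incl_map h ψ hψ) V hU) := by
    rw [Scheme.Hom.appLE_comp_appLE]
  exact (congr($h1 s)).symm

theorem coef_map_apply {B : Art k k} (h : B ⟶ dual k k) (ψ : XA x B ⟶ Y) (hψ : XAincl x B ≫ ψ = f) (V : Y.Opens)
    (s : Γ(Y, V)) (U : X.affineOpens) (hU : U.1 ≤ f ⁻¹ᵁ V) {t₁ t₂ : B} {a₁ a₂ : k}
    (h₁ : h t₁ = ofBase (dual k k : Art k k) a₁ * de) (h₂ : h t₂ = ofBase (dual k k : Art k k) a₂ * de)
    {b₁ b₂ : Γ(X, U.1)}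
    (hb : ψ.appLE V (W x B U).1 (le_pre ψ hψ V hU) s =
      fstPull x B U (f.appLE V U.1 hU s) + c x B U t₁ * fstPull x B U b₁ + c x B U t₂ * fstPull x B U b₂) :
    X.presheaf.map (homOfLE hU).op (coef (XAmap x h ≫ ψ) (incl_map h ψ hψ) V s) =
      sc x U.1 a₁ * b₁ + sc x U.1 a₂ * b₂ := by
  have h3 := isCoef_coef (XAmap x h ≫ ψ) (incl_map h ψ hψ) V s U hU
  rw [appLE_map_comp h ψ hψ V U hU s, hb, pi_expansion x h U h₁ h₂] at h3
  exact (c_de_cancel x U (add_left_cancel h3)).symm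

theorem coef_congr {φ φ' : XA x (dual k k : Art k k) ⟶ Y} (e : φ = φ') (hφ : XAincl x _ ≫ φ = f)
    (hφ' : XAincl x _ ≫ φ' = f) (V : Y.Opens) (s : Γ(Y, V)) : coef φ hφ V s = coef φ' hφ' V s := by
  subst e
  rfl

theorem coef_plus (ψ : XA x (dual2 k k : Art k k) ⟶ Y) (hψ : XAincl x _ ≫ ψ = f) (V : Y.Opens) (s : Γ(Y, V)) :
    coef (XAmap x plus ≫ ψ) (incl_map plus ψ hψ) V s =
      coef (XAmap x pr₁ ≫ ψ) (incl_map pr₁ ψ hψ) V s + coef (XAmap x pr₂ ≫ ψ) (incl_map pr₂ ψ hψ) V s := by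
  refine eq_of_affine fun U hU => ?_
  obtain ⟨b₁, b₂, hb⟩ := exists_coef x U (de₁ : (dual2 k k : Art k k)) de₂ maximalIdeal_dual2
    (TrivSqZeroExt.inr_mul_inr ..) (TrivSqZeroExt.inr_mul_inr ..) (TrivSqZeroExt.inr_mul_inr ..)
    (ψ.appLE V (W x _ U).1 (le_pre ψ hψ V hU) s)
  rw [rho_val ψ hψ V U hU s] at hb
  rw [map_add, coef_map_apply plus ψ hψ V s U hU H9Quot.plus_de₁ H9Quot.plus_de₂ hb,
    coef_map_apply pr₁ ψ hψ V s U hU H9Quot.pr₁_de₁ H9Quot.pr₁_de₂ hb,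
    coef_map_apply pr₂ ψ hψ V s U hU H9Quot.pr₂_de₁ H9Quot.pr₂_de₂ hb]
  simp only [map_one, map_zero, one_mul, zero_mul, add_zero, zero_add]

theorem coef_scale (a : k) (φ : XA x (dual k k : Art k k) ⟶ Y) (hφ : XAincl x _ ≫ φ = f) (V : Y.Opens) (s : Γ(Y, V))
    (U : X.affineOpens) (hU : U.1 ≤ f ⁻¹ᵁ V) :
    X.presheaf.map (homOfLE hU).op (coef (XAmap x (scale a) ≫ φ) (incl_map (scale a) φ hφ) V s) =
      sc x U.1 a * X.presheaf.map (homOfLE hU).op (coef φ hφ V s) := by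
  have hb : φ.appLE V (W x (dual k k : Art k k) U).1 (le_pre φ hφ V hU) s =
      fstPull x _ U (f.appLE V U.1 hU s) +
        c x _ U de * fstPull x _ U (X.presheaf.map (homOfLE hU).op (coef φ hφ V s)) +
          c x _ U de * fstPull x _ U 0 := by
    rw [isCoef_coef φ hφ V s U hU, map_zero, mul_zero, add_zero]
  rw [coef_map_apply (scale a) φ hφ V s U hU (H9Quot.scale_de a) (H9Quot.scale_de a) hb, mul_zero, add_zero]

theorem const_appLE (hf : f ≫ y = x) (V : Y.Opens) (U : X.affineOpens) (hU : U.1 ≤ f ⁻¹ᵁ V) (a : k) :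
    f.appLE V U.1 hU (Y.presheaf.map (homOfLE (le_top : V ≤ ⊤)).op (Coh.toGlobal y a)) = sc x U.1 a := by
  have h1 : y.appTop ≫ f.appLE ⊤ U.1 le_top = x.appLE ⊤ U.1 (fun _ _ => trivial) := by
    show y.app ⊤ ≫ _ = _
    rw [Scheme.Hom.app_eq_appLE]
    exact (Scheme.Hom.appLE_comp_appLE f y ⊤ (y ⁻¹ᵁ ⊤) U.1 le_rfl le_top).trans (appLE_congr hf _ _ _ _)
  refine (congr($(Scheme.Hom.map_appLE (f := f) hU (homOfLE (le_top : V ≤ ⊤)).op) (Coh.toGlobal y a))).trans ?_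
  exact congr($h1 ((Scheme.ΓSpecIso (CommRingCat.of k)).inv a))

/-- The linear map on the derivation module determined by a morphism. -/
theorem exists_hom [QuasiSeparated y] (φ : XA x (dual k k : Art k k) ⟶ Y) (hφ : XAincl x _ ≫ φ = f)
    (hy : φ ≫ y = pullback.fst x (specOver (dual k k : Art k k)) ≫ x) (hf : f ≫ y = x) :
    ∃ θ : Omega.sheaf y ⟶ (Scheme.Modules.pushforward f).obj (Coh.structureModule X),
      ∀ (V : Y.Opens) (s : Γ(Y, V)), θ.app V ((OmegaSh.dOmega y).app V s) = coef φ hφ V s := by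
  obtain ⟨θ, hθ, -⟩ := OmegaUniv.isUniversal_dOmega y _ (toDer φ hφ hy hf)
  exact ⟨θ, fun V s => congrArg (fun D => OmegaSh.Der.app D V s) hθ⟩

theorem hom_add_eq [QuasiSeparated y] (ψ : XA x (dual2 k k : Art k k) ⟶ Y) (hψ : XAincl x _ ≫ ψ = f)
    {φ φ₁ φ₂ : XA x (dual k k : Art k k) ⟶ Y} (hφ : XAincl x _ ≫ φ = f) (hφ₁ : XAincl x _ ≫ φ₁ = f)
    (hφ₂ : XAincl x _ ≫ φ₂ = f) (e : φ = XAmap x plus ≫ ψ) (e₁ : φ₁ = XAmap x pr₁ ≫ ψ) (e₂ : φ₂ = XAmap x pr₂ ≫ ψ)
    {θ θ₁ θ₂ : Omega.sheaf y ⟶ (Scheme.Modules.pushforward f).obj (Coh.structureModule X)}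
    (h : ∀ (V : Y.Opens) (s : Γ(Y, V)), θ.app V ((OmegaSh.dOmega y).app V s) = coef φ hφ V s)
    (h₁ : ∀ (V : Y.Opens) (s : Γ(Y, V)), θ₁.app V ((OmegaSh.dOmega y).app V s) = coef φ₁ hφ₁ V s)
    (h₂ : ∀ (V : Y.Opens) (s : Γ(Y, V)), θ₂.app V ((OmegaSh.dOmega y).app V s) = coef φ₂ hφ₂ V s) :
    θ = θ₁ + θ₂ := by
  subst e e₁ e₂
  refine H9DefExt.omega_hom_ext y fun V s => ?_
  rw [Scheme.Modules.Hom.add_app]
  exact (h _ s).trans ((coef_plus ψ hψ V.toOpens s).trans (congrArg₂ (· + ·) (h₁ _ s).symm (h₂ _ s).symm))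

theorem hom_smul_eq [QuasiSeparated y] [iY : Y.Over (Spec (CommRingCat.of k))]
    (hiY : Y ↘ Spec (CommRingCat.of k) = y) (hf : f ≫ y = x) (a : k)
    {φ φ' : XA x (dual k k : Art k k) ⟶ Y} (hφ : XAincl x _ ≫ φ = f) (hφ' : XAincl x _ ≫ φ' = f)
    (e : φ' = XAmap x (scale a) ≫ φ)
    {θ θ' : Omega.sheaf y ⟶ (Scheme.Modules.pushforward f).obj (Coh.structureModule X)}
    (h : ∀ (V : Y.Opens) (s : Γ(Y, V)), θ.app V ((OmegaSh.dOmega y).app V s) = coef φ hφ V s)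
    (h' : ∀ (V : Y.Opens) (s : Γ(Y, V)), θ'.app V ((OmegaSh.dOmega y).app V s) = coef φ' hφ' V s) :
    θ' = a • θ := by
  subst e
  refine H9DefExt.omega_hom_ext y fun V s => ?_
  rw [KLin.smul_app_apply, hiY]
  show θ'.app V.toOpens _ = (f.app V.toOpens (Y.presheaf.map (homOfLE le_top).op (Coh.toGlobal y a))) *
    (show Γ(X, f ⁻¹ᵁ V.toOpens) from θ.app V.toOpens _)
  rw [h, h']
  refine eq_of_affine fun U hU => ?_
  rw [map_mul, coef_scale a φ hφ V.toOpens s U hU, f_res, const_appLE hf]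

theorem eq_of_hom_eq [QuasiSeparated y] {φ φ' : XA x (dual k k : Art k k) ⟶ Y} (hφ : XAincl x _ ≫ φ = f) (hφ' : XAincl x _ ≫ φ' = f)
    {θ θ' : Omega.sheaf y ⟶ (Scheme.Modules.pushforward f).obj (Coh.structureModule X)}
    (h : ∀ (V : Y.Opens) (s : Γ(Y, V)), θ.app V ((OmegaSh.dOmega y).app V s) = coef φ hφ V s)
    (h' : ∀ (V : Y.Opens) (s : Γ(Y, V)), θ'.app V ((OmegaSh.dOmega y).app V s) = coef φ' hφ' V s)
    (e : θ = θ') : φ = φ' := by
  subst e
  exact ext_of_coef φ hφ hφ' fun V s => (h V s).symm.trans (h' V s)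

theorem eq_hom_of_ofDer [QuasiSeparated y]
    (d : Omega.sheaf y ⟶ (Scheme.Modules.pushforward f).obj (Coh.structureModule X))
    {φ : XA x (dual k k : Art k k) ⟶ Y} (hφ : XAincl x _ ≫ φ = f)
    (e : φ = ofDer x ((OmegaSh.dOmega y).postcomp d.val))
    {θ : Omega.sheaf y ⟶ (Scheme.Modules.pushforward f).obj (Coh.structureModule X)}
    (h : ∀ (V : Y.Opens) (s : Γ(Y, V)), θ.app V ((OmegaSh.dOmega y).app V s) = coef φ hφ V s) : θ = d := by
  subst e
  refine H9DefExt.omega_hom_ext y fun V s => ?_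
  exact (h _ s).trans ((coef_ofDer x _ V.toOpens s).trans rfl)

section HomScheme

variable [hX : X.Over (Spec (CommRingCat.of k))] {M : Over (Spec (CommRingCat.of k))}
  (υ : Over.mk (X ↘ Spec (CommRingCat.of k)) ⊗ M ⟶ Over.mk y)

/-- The Artinian base. -/
abbrev TA (A : Art k k) : Over (Spec (CommRingCat.of k)) := Over.mk (specOver A)

/-- The family of morphisms at a point. -/
def fam {A : Art k k} (v : TA A ⟶ M) : XA (X ↘ Spec (CommRingCat.of k)) A ⟶ Y := ((Over.mk (X ↘ Spec (CommRingCat.of k))) ◁ v ≫ υ).left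

theorem fam_over {A : Art k k} (v : TA A ⟶ M) : fam υ v ≫ y = pullback.fst (X ↘ Spec (CommRingCat.of k)) (specOver A) ≫ (X ↘ Spec (CommRingCat.of k)) :=
  Over.w ((Over.mk (X ↘ Spec (CommRingCat.of k))) ◁ v ≫ υ)

theorem whisker_eq {A B : Art k k} (h : B ⟶ A) :
    ((Over.mk (X ↘ Spec (CommRingCat.of k))) ◁ (Over.homMk (specMap h) (specOver_comp h) : TA A ⟶ TA B)).left = XAmap (X ↘ Spec (CommRingCat.of k)) h := by
  refine pullback.hom_ext ?_ ?_
  · exact (Over.whiskerLeft_left_fst _).trans (XAmap_fst (X ↘ Spec (CommRingCat.of k)) h).symm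
  · exact (Over.whiskerLeft_left_snd _).trans (XAmap_snd (X ↘ Spec (CommRingCat.of k)) h).symm

theorem fam_map {A B : Art k k} (h : B ⟶ A) (v : TA B ⟶ M) :
    fam υ ((Over.homMk (specMap h) (specOver_comp h) : TA A ⟶ TA B) ≫ v) = XAmap (X ↘ Spec (CommRingCat.of k)) h ≫ fam υ v := by
  rw [← whisker_eq h]
  show _ = (((Over.mk (X ↘ Spec (CommRingCat.of k))) ◁ _) ≫ (Over.mk (X ↘ Spec (CommRingCat.of k))) ◁ v ≫ υ).left
  rw [← MonoidalCategory.whiskerLeft_comp_assoc]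
  rfl

variable {υ} {af : 𝟙_ (Over (Spec (CommRingCat.of k))) ⟶ M} {hf : f ≫ y = X ↘ Spec (CommRingCat.of k)}
  (haf : ((Over.mk (X ↘ Spec (CommRingCat.of k))) ◁ af) ≫ υ = (ρ_ (Over.mk (X ↘ Spec (CommRingCat.of k)))).hom ≫ (Over.homMk f hf : (Over.mk (X ↘ Spec (CommRingCat.of k))) ⟶ Over.mk y))

include haf in
theorem incl_fam {A : Art k k} (v : TA A ⟶ M) (hv : specRes A ≫ v.left = af.left) :
    XAincl (X ↘ Spec (CommRingCat.of k)) A ≫ fam υ v = f := by
  let ι₀ : X ⟶ ((Over.mk (X ↘ Spec (CommRingCat.of k))) ⊗ 𝟙_ (Over (Spec (CommRingCat.of k)))).left :=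
    pullback.lift (𝟙 X) (X ↘ Spec (CommRingCat.of k)) (by simp)
  have e1 : XAincl (X ↘ Spec (CommRingCat.of k)) A ≫ ((Over.mk (X ↘ Spec (CommRingCat.of k))) ◁ v).left = ι₀ ≫ ((Over.mk (X ↘ Spec (CommRingCat.of k))) ◁ af).left := by
    refine pullback.hom_ext ?_ ?_
    · rw [Category.assoc, Category.assoc, Over.whiskerLeft_left_fst, Over.whiskerLeft_left_fst]
      exact (XAincl_fst (X ↘ Spec (CommRingCat.of k)) A).trans (pullback.lift_fst _ _ _).symm
    · rw [Category.assoc, Category.assoc, Over.whiskerLeft_left_snd, Over.whiskerLeft_left_snd, ← Category.assoc,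
        ← Category.assoc]
      refine (congrArg (· ≫ v.left) (XAincl_snd (X ↘ Spec (CommRingCat.of k)) A)).trans ((Category.assoc _ _ _).trans ?_)
      rw [hv]
      exact (congrArg (· ≫ af.left) (pullback.lift_snd _ _ _)).symm
  show XAincl (X ↘ Spec (CommRingCat.of k)) A ≫ ((Over.mk (X ↘ Spec (CommRingCat.of k))) ◁ v).left ≫ υ.left = f
  rw [← Category.assoc, e1, Category.assoc, ← Over.comp_left, haf]
  show ι₀ ≫ pullback.fst _ _ ≫ f = f
  rw [← Category.assoc]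
  exact (congrArg (· ≫ f) (pullback.lift_fst _ _ _)).trans (Category.id_comp f)

/-- The closed point of an Artinian base. -/
abbrev g₀ (A : Art k k) : 𝟙_ (Over (Spec (CommRingCat.of k))) ⟶ TA A :=
  Over.homMk (specRes A) ((specRes_comp (ofBase A)).trans ((Category.id_comp _).symm.trans (comp_specRes_base (𝟙 _))))

theorem whisker_res (A : Art k k) :
    ((Over.mk (X ↘ Spec (CommRingCat.of k))) ◁ g₀ A).left = (ρ_ (Over.mk (X ↘ Spec (CommRingCat.of k)))).hom.left ≫ XAincl (X ↘ Spec (CommRingCat.of k)) A := by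
  refine pullback.hom_ext ?_ ?_
  · refine (Over.whiskerLeft_left_fst _).trans ?_
    exact (((Category.assoc _ _ _).trans
      (congrArg ((ρ_ (Over.mk (X ↘ Spec (CommRingCat.of k)))).hom.left ≫ ·) (XAincl_fst (X ↘ Spec (CommRingCat.of k)) A))).trans (Category.comp_id _)).symm
  · refine (Over.whiskerLeft_left_snd _).trans ?_
    refine Eq.trans ?_ (((Category.assoc _ _ _).trans
      (congrArg ((ρ_ (Over.mk (X ↘ Spec (CommRingCat.of k)))).hom.left ≫ ·) (XAincl_snd (X ↘ Spec (CommRingCat.of k)) A))).trans (Category.assoc _ _ _).symm).symm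
    refine congrArg (· ≫ specRes A) ?_
    exact ((Category.comp_id _).symm.trans pullback.condition.symm)

theorem res_of_incl {A : Art k k} (w : TA A ⟶ M) (hw : XAincl (X ↘ Spec (CommRingCat.of k)) A ≫ fam υ w = f)
    (h : (((Over.mk (X ↘ Spec (CommRingCat.of k))) ◁ af) ≫ υ).left = (ρ_ (Over.mk (X ↘ Spec (CommRingCat.of k)))).hom.left ≫ f)
    (hM : ∀ (T : Over (Spec (CommRingCat.of k))) (φ : (Over.mk (X ↘ Spec (CommRingCat.of k))) ⊗ T ⟶ Over.mk y), ∃! a : T ⟶ M, ((Over.mk (X ↘ Spec (CommRingCat.of k))) ◁ a) ≫ υ = φ) :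
    specRes A ≫ w.left = af.left := by
  have e : ((Over.mk (X ↘ Spec (CommRingCat.of k))) ◁ (g₀ A ≫ w)) ≫ υ = ((Over.mk (X ↘ Spec (CommRingCat.of k))) ◁ af) ≫ υ := by
    refine Over.OverMorphism.ext (Eq.trans ?_ h.symm)
    rw [MonoidalCategory.whiskerLeft_comp, Category.assoc, Over.comp_left, whisker_res, Category.assoc]
    exact congrArg ((ρ_ (Over.mk (X ↘ Spec (CommRingCat.of k)))).hom.left ≫ ·) hw
  exact congrArg CommaMorphism.left ((hM _ (((Over.mk (X ↘ Spec (CommRingCat.of k))) ◁ af) ≫ υ)).unique e rfl)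

include haf in
theorem exists_point_of_der
    (hM : ∀ (T : Over (Spec (CommRingCat.of k))) (φ : (Over.mk (X ↘ Spec (CommRingCat.of k))) ⊗ T ⟶ Over.mk y), ∃! a : T ⟶ M, ((Over.mk (X ↘ Spec (CommRingCat.of k))) ◁ a) ≫ υ = φ)
    (D : OmegaSh.Der y ((Scheme.Modules.pushforward f).obj (Coh.structureModule X))) :
    ∃ w : TA (dual k k : Art k k) ⟶ M, fam υ w = ofDer (X ↘ Spec (CommRingCat.of k)) D ∧
      specRes (dual k k : Art k k) ≫ w.left = af.left := by
  obtain ⟨w, hw', -⟩ := hM (TA (dual k k : Art k k))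
    (Over.homMk (ofDer (X ↘ Spec (CommRingCat.of k)) D) (ofDer_over (X ↘ Spec (CommRingCat.of k)) D hf) : (Over.mk (X ↘ Spec (CommRingCat.of k))) ⊗ TA (dual k k : Art k k) ⟶ Over.mk y)
  have hfam : fam υ w = ofDer (X ↘ Spec (CommRingCat.of k)) D := congrArg CommaMorphism.left hw'
  refine ⟨w, hfam, res_of_incl w ?_ (by rw [haf]; rfl) hM⟩
  rw [hfam]
  exact incl_ofDer (X ↘ Spec (CommRingCat.of k)) D

include haf in
set_option maxHeartbeats 1600000 in
theorem exists_linearEquiv_tangent [QuasiSeparated y]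
    (hM : ∀ (T : Over (Spec (CommRingCat.of k))) (φ : (Over.mk (X ↘ Spec (CommRingCat.of k))) ⊗ T ⟶ Over.mk y), ∃! a : T ⟶ M, ((Over.mk (X ↘ Spec (CommRingCat.of k))) ◁ a) ≫ υ = φ) :
    letI : Y.Over (Spec (CommRingCat.of k)) := ⟨y⟩
    Module.finrank (ResidueField (M.left.presheaf.stalk (af.left (closedPoint k))))
        (CotangentSpace (M.left.presheaf.stalk (af.left (closedPoint k)))) =
      Module.finrank k (Omega.sheaf y ⟶ (Scheme.Modules.pushforward f).obj (Coh.structureModule X)) := by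
  letI iY : Y.Over (Spec (CommRingCat.of k)) := ⟨y⟩
  have hw : af.left ≫ M.hom = 𝟙 _ := Over.w af
  letI := stalkAlg M.hom af.left
  obtain ⟨e, he⟩ := exists_equiv M.hom af.left hw
  let S := M.left.presheaf.stalk (pt af.left)
  let res := resAlg M.hom af.left hw
  let v : ∀ A, HomSet S res A → (TA A ⟶ M) := fun A φ => Over.homMk (e A φ).1 (e A φ).2.1
  have hv : ∀ A (φ : HomSet S res A), XAincl (X ↘ Spec (CommRingCat.of k)) A ≫ fam υ (v A φ) = f := fun A φ =>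
    incl_fam haf _ (e A φ).2.2
  have hnat : ∀ {A B : Art k k} (h : A ⟶ B) (φ : HomSet S res A),
      fam υ (v B (HomSet.map h φ)) = XAmap (X ↘ Spec (CommRingCat.of k)) h ≫ fam υ (v A φ) := fun {A B} h φ => by
    rw [← fam_map, show v B (HomSet.map h φ) = (Over.homMk (specMap h) (specOver_comp h) : TA B ⟶ TA A) ≫ v A φ from
      Over.OverMorphism.ext (he A B h φ)]
  choose θ hθ using fun φ : HomSet S res (dual k k) => exists_hom (fam υ (v _ φ)) (hv _ φ) (fam_over υ _) hf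
  obtain ⟨T⟩ := nonempty_tangentStr (F := ArtFun.hR S res) (hR_h0 S res) (hR_heps S res)
  obtain ⟨eD⟩ := exists_dual res
  let Φ : TangentSpace (ArtFun.hR S res) →ₗ[k]
      (Omega.sheaf y ⟶ (Scheme.Modules.pushforward f).obj (Coh.structureModule X)) :=
    { toFun := fun φ => θ (TangentSpace.val φ)
      map_add' := fun φ ψ => by
        obtain ⟨z, h₁, h₂⟩ := exists_pair (hR_h0 S res) (hR_heps S res)
          (TangentSpace.val φ) (TangentSpace.val ψ)
        have hadd : φ + ψ = TangentSpace.mk ((ArtFun.hR S res).map plus z) := by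
          rw [← tangent_add_eq, h₁, h₂]; rfl
        have e₁ : fam υ (v _ (TangentSpace.val φ)) = XAmap (X ↘ Spec (CommRingCat.of k)) pr₁ ≫ fam υ (v _ z) := by
          rw [← hnat, ← h₁]; rfl
        have e₂ : fam υ (v _ (TangentSpace.val ψ)) = XAmap (X ↘ Spec (CommRingCat.of k)) pr₂ ≫ fam υ (v _ z) := by
          rw [← hnat, ← h₂]; rfl
        have e₃ : fam υ (v _ (TangentSpace.val (φ + ψ))) = XAmap (X ↘ Spec (CommRingCat.of k)) plus ≫ fam υ (v _ z) := by
          rw [← hnat, hadd]; rfl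
        exact hom_add_eq _ (hv _ z) (hv _ _) (hv _ _) (hv _ _) e₃ e₁ e₂ (hθ _) (hθ _) (hθ _)
      map_smul' := fun a φ => by
        have hsm : a • φ = TangentSpace.mk ((ArtFun.hR S res).map (scale a) (TangentSpace.val φ)) := by
          rw [← tangent_smul_eq]; rfl
        have e₁ : fam υ (v _ (TangentSpace.val (a • φ))) = XAmap (X ↘ Spec (CommRingCat.of k)) (scale a) ≫ fam υ (v _ (TangentSpace.val φ)) := by
          rw [← hnat, hsm]; rfl
        exact hom_smul_eq (y := y) rfl hf a (hv _ _) (hv _ _) e₁ (hθ _) (hθ _) }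
  have hΦ : Function.Bijective Φ := by
    constructor
    · intro φ ψ h
      have h1 : fam υ (v _ (TangentSpace.val φ)) = fam υ (v _ (TangentSpace.val ψ)) :=
        eq_of_hom_eq (hv _ _) (hv _ _) (hθ _) (hθ _) h
      have h2 := (hM _ ((Over.mk (X ↘ Spec (CommRingCat.of k))) ◁ v _ (TangentSpace.val φ) ≫ υ)).unique rfl
        (Over.OverMorphism.ext h1.symm)
      exact (e _).injective (Subtype.ext (congrArg CommaMorphism.left h2))
    · intro d
      obtain ⟨w, hfam, hw0⟩ := exists_point_of_der haf hM ((OmegaSh.dOmega y).postcomp d.val)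
      let φ := (e _).symm ⟨w.left, Over.w w, hw0⟩
      have hφ : v _ φ = w := Over.OverMorphism.ext (congrArg Subtype.val ((e _).apply_symm_apply _))
      exact ⟨(φ : HomSet S res (dual k k)),
        eq_hom_of_ofDer d (hv _ φ) ((congrArg (fam υ) hφ).trans hfam) (hθ φ)⟩
  refine (finrank_cotangent_eq res).trans ?_
  rw [← Subspace.dual_finrank_eq, ← eD.finrank_eq]
  exact (LinearEquiv.ofBijective Φ hΦ).finrank_eq

end HomScheme

end Groth.Agent.H9HomTan
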